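import Cfsg.Agent.Lib.Sporadic.LyRep.RedWords

set_option autoImplicit false
set_option maxRecDepth 20000
set_option Elab.async false

/-! Relators that evaluate to the identity, in parts (owner: helper25). -/

namespace CfsgLib.Sporadic.LyRep

theorem red_part10 : redPart 42 7 = true := by decide +kernel

theorem red_part11 : redPart 49 2 = true := by decide +kernel

theorem red_part12 : redPart 51 1 = true := by decide +kernel

end CfsgLib.Sporadic.LyRep
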