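import Cfsg.Agent.Lib.Sporadic.LyRep.RedPart0
import Cfsg.Agent.Lib.Sporadic.LyRep.RedPart1
import Cfsg.Agent.Lib.Sporadic.LyRep.RedPart2

set_option autoImplicit false
set_option maxRecDepth 20000

/-! All relators evaluate to the identity (owner: helper25). -/

namespace CfsgLib.Sporadic.LyRep

theorem red_split : redWords = (List.take 9 (List.drop 0 redWords)) ++ (List.take 6 (List.drop 9 redWords)) ++ (List.take 7 (List.drop 15 redWords)) ++ (List.take 3 (List.drop 22 redWords)) ++ (List.take 2 (List.drop 25 redWords)) ++ (List.take 2 (List.drop 27 redWords)) ++ (List.take 2 (List.drop 29 redWords)) ++ (List.take 1 (List.drop 31 redWords)) ++ (List.take 4 (List.drop 32 redWords)) ++ (List.take 6 (List.drop 36 redWords)) ++ (List.take 7 (List.drop 42 redWords)) ++ (List.take 2 (List.drop 49 redWords)) ++ (List.take 1 (List.drop 51 redWords)) := by decide +kernel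

theorem red_check : redWords.all (fun w => w.all (fun x => Nat.blt x 10) &&
    Nat.beq (evalSp rmLit maskLit oneLit spMats w) oneLit) = true := by
  rw [red_split]
  simp only [List.all_append, Bool.and_eq_true]
  exact ⟨⟨⟨⟨⟨⟨⟨⟨⟨⟨⟨⟨red_part0, red_part1⟩, red_part2⟩, red_part3⟩, red_part4⟩, red_part5⟩, red_part6⟩, red_part7⟩, red_part8⟩, red_part9⟩, red_part10⟩, red_part11⟩, red_part12⟩

end CfsgLib.Sporadic.LyRep
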