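import Cfsg.Agent.Lib.Sporadic.LyGroup.Words
import Cfsg.Agent.Lib.Sporadic.LyRep.Checks

/-!
# A representation of the presented Lyons group of degree 111 (owner: helper25)
-/

set_option autoImplicit false
set_option maxRecDepth 20000

namespace CfsgLib.Sporadic.LyRep

open Cfsg
open CfsgLib.Sporadic.PairEnum (flp)

/-- a letter as a matrix -/
noncomputable def mat (x : ℕ) : Mat 111 := toMat 111 (mats x)

theorem len_of_lt {x : ℕ} (hx : x < 10) : rowsOK 111 (mats x) = true :=
  List.all_eq_true.1 rows_ok x (List.mem_range.2 hx)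

theorem prod_mat_eq_one {w : List ℕ} (hw : ∀ x ∈ w, x < 10)
    (h : evalSp rmLit maskLit oneLit spMats w = oneLit) : (w.map mat).prod = 1 := by
  apply enc_injective
  rw [sp_eq hw, oneLit_eq, ← enc_one] at h
  exact packB_inj (enc_bound _) (enc_bound _) (by simp [enc]) h

theorem xor_one_lt {x : ℕ} (hx : x < 10) : x ^^^ 1 < 10 := by interval_cases x <;> decide

theorem xor_one_ge {x : ℕ} (hx : ¬ x < 10) : ¬ x ^^^ 1 < 10 := fun h => hx (by
  have := xor_one_lt h
  rwa [Nat.xor_assoc, Nat.xor_self, Nat.xor_zero] at this)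

theorem mat_mul_inv {x : ℕ} (hx : x < 10) : mat x * mat (x ^^^ 1) = 1 := by
  have h := prod_mat_eq_one (w := [x, x ^^^ 1]) (by simp [hx, xor_one_lt hx]) (inv_words ⟨x, hx⟩)
  simpa using h

theorem mat_inv_mul {x : ℕ} (hx : x < 10) : mat (x ^^^ 1) * mat x = 1 := by
  have h := mat_mul_inv (xor_one_lt hx)
  rwa [Nat.xor_assoc, Nat.xor_self, Nat.xor_zero] at h

/-- a letter as a unit -/
noncomputable def unit (x : ℕ) : (Mat 111)ˣ :=
  if hx : x < 10 then ⟨mat x, mat (x ^^^ 1), mat_mul_inv hx, mat_inv_mul hx⟩ else 1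

theorem unit_val {x : ℕ} (hx : x < 10) : ((unit x : (Mat 111)ˣ) : Mat 111) = mat x := by simp [unit, hx]

theorem unit_flp (x : ℕ) : unit (flp x) = (unit x)⁻¹ := by
  show unit (x ^^^ 1) = _
  by_cases hx : x < 10
  · apply Units.ext
    rw [unit_val (xor_one_lt hx)]
    simp [unit, hx]
  · simp [unit, hx, xor_one_ge hx]

theorem rel_cover : LyGroup.relWords.all (fun w => (LyGroup.red w).isEmpty || redWords.contains (LyGroup.red w)) =
    true := by decide +kernel

theorem unit_rel {w : List ℕ} (hw : w ∈ LyGroup.relWords) : (w.map unit).prod = 1 := by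
  rw [← LyGroup.prod_red unit_flp]
  have h := List.all_eq_true.1 rel_cover w hw
  rw [Bool.or_eq_true, List.isEmpty_iff, List.contains_iff_mem] at h
  rcases h with h | h
  · simp [h]
  · have h' := List.all_eq_true.1 red_check _ h
    simp only [Bool.and_eq_true, List.all_eq_true, Nat.blt_eq, Nat.beq_eq] at h'
    apply Units.ext
    rw [Units.val_one, ← Units.coeHom_apply, map_list_prod, List.map_map]
    rw [← prod_mat_eq_one h'.1 h'.2]
    congr 1
    exact List.map_congr_left fun x hx => unit_val (h'.1 x hx)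

/-- The representation. -/
noncomputable def rho : Spor.Ly →* (Mat 111)ˣ := LyGroup.lift unit unit_flp fun _ h => unit_rel h

theorem c_check : evalSp rmLit maskLit oneLit spMats [4] ≠ oneLit := by decide +kernel

theorem rho_c_ne : rho (PresentedGroup.of Spor.Ly.Gen.c) ≠ 1 := fun h => c_check (by
  rw [rho, LyGroup.lift_of] at h
  have h' := congrArg (fun u : (Mat 111)ˣ => enc (u : Mat 111)) h
  simp only [LyGroup.defW, List.map_cons, List.map_nil, List.prod_cons, List.prod_nil, mul_one,
    unit_val (show 4 < 10 by norm_num), Units.val_one] at h'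
  rw [sp_eq (by simp), oneLit_eq, ← enc_one]
  simpa [mat] using congrArg packB h')

end CfsgLib.Sporadic.LyRep
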