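import Mathlib

set_option autoImplicit false
set_option maxRecDepth 20000

/-! Letter 9 in degree 111 over five elements (owner: helper25). -/

namespace CfsgLib.Sporadic.LyRep

/-- rows of letter 9 -/
def rows9 : List (List ℕ) := [
  [0,2,0,0,0,0,0,4,0,0,0,0,0,0,0,0,0,0,0,0,0,0,0,0,0,0,0,0,0,2,4,0,0,0,0,0,0,0,0,0,4,0,0,0,0,0,4,0,0,0,0,2,0,0,0,0,0,0,0,0,0,0,0,0,0,0,0,0,0,0,0,0,0,4,0,0,0,0,3,0,0,0,3,0,0,0,1,2,0,0,0,3,1,0,0,1,0,0,4,0,3,0,0,0,2,0,0,0,0,0,0],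
  [1,0,0,0,0,0,0,0,0,4,0,0,0,0,0,0,0,0,0,0,0,0,0,0,0,0,0,0,0,0,0,0,0,0,4,0,0,0,0,0,1,0,0,0,0,0,1,0,0,0,0,0,0,0,0,0,2,3,0,0,0,0,0,0,0,0,0,0,0,0,0,0,0,3,0,0,0,0,1,0,0,0,1,0,0,0,1,2,0,0,0,0,1,0,0,3,0,0,2,0,4,0,0,0,1,3,0,0,0,0,0],
  [0,0,2,0,0,0,0,0,2,0,0,2,0,3,0,0,1,0,0,0,0,0,0,0,0,0,0,0,0,0,0,0,0,1,0,0,0,0,2,0,0,0,0,2,0,0,0,0,0,2,0,0,0,0,0,0,0,0,0,0,0,4,0,0,0,0,0,1,0,0,0,0,2,0,0,0,0,0,0,0,0,0,0,0,0,0,0,0,0,0,2,0,0,0,4,0,0,0,0,3,0,0,2,0,0,0,0,0,0,0,0],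
  [0,0,0,2,0,0,0,0,4,0,0,2,0,4,0,0,4,0,0,0,4,0,0,0,0,0,0,0,0,0,0,0,0,2,0,0,0,0,2,0,0,0,0,1,0,0,0,0,0,3,0,0,0,0,0,0,0,0,0,0,0,4,0,0,0,0,0,3,0,0,0,0,3,0,0,0,0,3,0,0,0,0,0,0,0,0,0,0,0,0,3,0,0,0,4,0,0,3,0,3,0,0,3,0,0,0,0,0,0,0,0],
  [0,0,0,0,2,0,0,0,0,0,0,2,0,2,0,0,1,0,0,0,3,0,0,0,0,0,0,0,0,0,0,0,0,0,0,0,0,0,2,0,0,0,0,3,0,0,0,0,0,2,0,0,0,0,0,0,0,0,0,0,0,4,0,0,0,0,0,4,0,0,0,0,2,0,0,0,0,1,0,0,0,0,0,0,0,0,0,0,0,0,3,0,0,0,4,0,0,3,0,3,0,0,3,0,0,0,0,0,0,0,0],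
  [0,0,0,0,0,0,0,0,0,0,4,0,3,0,0,3,0,0,3,1,0,0,0,0,3,0,0,0,3,0,0,0,2,0,0,0,0,4,0,0,0,0,0,0,0,0,0,0,1,0,0,0,0,1,4,0,0,0,0,2,0,0,0,0,0,0,0,0,0,0,3,3,0,0,0,0,2,0,0,0,2,2,0,0,0,4,0,0,0,0,0,0,0,0,0,0,0,0,0,0,0,4,0,1,0,0,0,0,0,1,2],
  [0,0,0,0,0,0,0,0,0,0,1,0,2,0,0,2,0,0,0,4,0,0,0,3,0,0,0,0,1,0,0,0,4,0,0,0,0,3,0,0,0,0,0,0,0,0,0,0,2,0,0,0,0,4,1,0,0,0,0,2,0,0,0,0,4,1,0,0,0,0,0,4,0,0,0,0,2,0,0,0,2,2,0,0,0,1,0,0,0,0,0,0,0,0,0,0,0,0,0,0,0,2,0,2,0,0,0,0,0,4,4],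
  [4,0,0,0,0,0,0,0,0,3,0,0,0,0,0,0,0,0,0,0,0,0,0,0,0,3,0,0,0,1,4,0,0,0,1,0,0,0,0,1,1,0,0,0,0,0,3,0,0,0,0,3,0,0,0,0,2,1,0,0,0,0,4,0,0,0,0,0,0,0,0,0,0,2,0,0,0,0,1,0,0,0,4,0,0,0,0,3,0,0,0,1,2,0,0,3,0,0,4,0,3,0,0,0,1,2,0,0,0,0,0],
  [0,0,2,4,0,0,0,0,4,0,0,4,0,4,0,0,1,0,0,0,2,0,0,0,0,0,0,0,0,0,0,0,0,4,0,0,0,0,1,0,0,0,0,4,0,0,0,0,0,3,0,0,0,0,0,0,0,0,0,0,0,2,0,0,0,0,0,2,0,0,0,0,3,0,0,0,0,1,0,0,0,0,0,0,0,0,0,0,0,0,1,0,0,0,2,0,0,2,0,3,0,0,1,0,0,0,0,4,1,0,0],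
  [0,4,0,0,0,0,0,4,0,0,0,0,0,0,0,0,0,0,0,0,0,0,0,0,0,2,0,0,0,4,3,0,0,0,4,0,0,0,0,0,4,0,0,0,0,1,0,0,0,0,0,1,0,0,0,0,4,4,0,0,0,0,3,0,0,0,0,0,0,0,0,0,0,4,0,0,0,0,3,0,0,0,2,0,0,0,3,3,0,0,0,0,0,0,0,4,0,0,3,0,2,0,0,0,4,2,0,0,0,0,0],
  [0,0,0,0,0,2,4,0,0,0,3,0,1,0,0,0,0,0,0,2,0,0,0,0,2,0,0,0,3,0,0,0,1,0,0,0,0,0,0,0,0,0,0,0,0,0,0,0,0,0,0,0,0,1,3,0,0,0,0,1,0,0,0,0,4,1,0,0,0,0,3,2,0,0,0,0,0,0,0,0,0,4,0,0,0,0,0,0,0,0,0,0,0,0,0,0,0,0,0,0,0,2,0,2,0,0,0,0,0,0,4],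
  [0,0,1,1,1,0,0,0,2,0,0,1,0,3,0,0,2,0,0,0,4,0,0,0,0,0,0,0,0,0,0,0,0,4,0,0,0,0,1,0,0,0,0,3,0,0,0,0,0,1,0,0,0,0,0,0,0,0,0,0,0,2,0,0,0,0,0,4,0,0,0,0,1,0,0,0,0,2,0,0,0,0,0,0,0,0,0,0,0,0,1,0,0,0,2,0,0,4,0,1,0,0,2,0,0,0,0,4,1,0,0],
  [0,0,0,0,0,4,3,0,0,0,1,0,1,0,0,2,0,0,1,0,0,0,0,0,2,0,0,0,4,0,0,0,4,0,0,0,0,4,0,0,0,0,0,0,0,0,0,0,1,0,0,0,0,4,0,0,0,0,0,2,0,0,0,0,3,2,0,0,0,0,1,4,0,0,0,0,0,0,0,0,0,3,0,0,0,0,0,0,0,0,0,0,0,0,0,0,0,0,0,0,0,2,0,4,0,0,0,0,0,0,3],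
  [0,0,3,4,2,0,0,0,4,0,0,1,0,2,0,0,2,0,0,0,4,0,0,0,0,0,0,0,0,0,0,0,0,3,0,0,0,0,4,0,0,0,0,0,0,0,0,0,0,1,0,0,0,0,0,0,0,0,0,0,0,3,0,0,0,0,0,0,0,0,0,0,1,0,0,0,0,2,0,0,0,0,0,0,0,0,0,0,0,0,2,0,0,0,3,0,0,0,0,1,0,0,2,0,0,0,0,0,0,0,0],
  [0,0,0,0,0,0,0,0,0,0,0,0,0,0,2,0,0,2,0,0,0,3,0,0,0,0,1,0,0,0,0,0,0,0,0,0,4,0,0,0,0,0,4,0,0,0,0,1,0,0,0,0,2,0,0,0,0,0,0,0,0,0,0,3,0,0,0,0,2,3,0,0,0,0,0,1,0,0,0,1,0,0,0,4,2,0,0,0,3,4,0,0,0,0,0,0,0,0,0,0,0,0,0,0,0,0,0,0,0,0,0],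
  [0,0,0,0,0,4,3,0,0,0,0,0,2,0,0,1,0,0,0,4,0,0,0,1,1,0,0,0,2,0,0,0,1,0,0,0,0,3,0,0,0,0,0,0,0,0,0,0,1,0,0,0,0,2,1,0,0,0,0,4,0,0,0,0,3,2,0,0,0,0,1,4,0,0,0,0,0,0,0,0,0,4,0,0,0,0,0,0,0,0,0,0,0,0,0,0,0,0,0,0,0,4,0,2,0,0,0,0,0,0,3],
  [0,0,2,3,2,0,0,0,2,0,0,3,0,4,0,0,1,0,0,0,1,0,0,0,0,0,0,0,0,0,0,0,0,4,0,0,0,0,2,0,0,0,0,4,0,0,0,0,0,2,0,0,0,0,0,0,0,0,0,0,0,4,0,0,0,0,0,2,0,0,0,0,2,0,0,0,0,3,0,0,0,0,0,0,0,0,0,0,0,0,1,0,0,0,4,0,0,2,0,2,0,0,3,0,0,0,0,3,2,0,0],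
  [0,0,0,0,0,0,0,0,0,0,0,0,0,0,3,0,0,4,0,0,0,1,4,0,0,0,2,4,0,0,0,1,0,0,0,2,1,0,0,0,0,0,3,0,0,0,0,2,0,0,0,0,4,0,0,0,0,0,2,0,0,0,0,3,0,0,0,0,2,3,0,0,0,0,1,1,0,0,0,2,0,0,0,3,4,0,0,0,1,3,0,0,0,0,0,0,0,0,0,0,0,0,0,0,0,0,0,0,0,0,0],
  [0,0,0,0,0,2,2,0,0,0,4,0,4,0,0,3,0,0,3,4,0,0,0,2,4,0,0,0,0,0,0,0,2,0,0,0,0,3,0,0,0,0,0,0,0,0,0,0,2,0,0,0,0,4,1,0,0,0,0,4,0,0,0,0,0,1,0,0,0,0,4,4,0,0,0,0,3,0,0,0,2,3,0,0,0,4,0,0,0,0,0,0,0,0,0,0,0,0,0,0,0,0,0,3,0,0,0,0,0,1,0],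
  [0,0,0,0,0,3,0,0,0,0,0,0,2,0,0,0,0,0,0,3,0,0,0,0,2,0,0,0,4,0,0,0,0,0,0,0,0,0,0,0,0,0,0,0,0,0,0,0,3,0,0,0,0,1,4,0,0,0,0,1,0,0,0,0,1,2,0,0,0,0,0,3,0,0,0,0,3,0,0,0,2,3,0,0,0,4,0,0,0,0,0,0,0,0,0,0,0,0,0,0,0,0,0,3,0,0,0,0,0,4,4],
  [0,0,0,4,3,0,0,0,2,0,0,3,0,4,0,0,3,0,0,0,4,0,0,0,0,0,0,0,0,0,0,0,0,4,0,0,0,0,2,0,0,0,0,4,0,0,0,0,0,4,0,0,0,0,0,0,0,0,0,0,0,4,0,0,0,0,0,2,0,0,0,0,4,0,0,0,0,1,0,0,0,0,0,0,0,0,0,0,0,0,1,0,0,0,4,0,0,2,0,4,0,0,1,0,0,0,0,1,4,0,0],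
  [0,0,0,0,0,0,0,0,0,0,0,0,0,0,1,0,0,3,0,0,0,0,3,0,0,0,2,4,0,0,0,3,0,0,0,3,1,0,0,0,0,3,2,0,0,0,0,2,0,0,0,0,4,0,0,0,0,0,4,0,0,0,0,1,0,0,0,0,4,1,0,0,0,0,0,4,0,0,0,0,0,0,0,3,1,0,0,0,1,0,0,0,0,3,0,0,1,0,0,0,0,0,0,0,0,0,0,0,0,0,0],
  [0,0,0,0,0,0,0,0,0,0,0,0,0,0,0,0,0,1,0,0,0,4,2,0,0,0,0,2,0,0,0,2,0,0,0,3,4,0,0,0,0,1,3,0,0,0,0,0,0,0,0,0,0,0,0,0,0,0,2,0,0,0,0,3,0,0,0,0,2,0,0,0,0,0,4,0,0,0,0,0,0,0,0,0,1,0,0,0,0,1,0,0,0,4,0,0,3,0,0,0,0,0,0,0,0,0,0,0,0,0,0],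
  [0,0,0,0,0,1,3,0,0,0,3,0,3,0,0,3,0,0,4,4,0,0,0,2,1,0,0,0,4,0,0,0,1,0,0,0,0,2,0,0,0,0,0,0,0,0,0,0,1,0,0,0,0,2,0,0,0,0,0,2,0,0,0,0,2,2,0,0,0,0,2,3,0,0,0,0,1,0,0,0,4,3,0,0,0,3,0,0,0,0,0,0,0,0,0,0,0,0,0,0,0,1,0,2,0,0,0,0,0,1,2],
  [0,0,0,0,0,0,3,0,0,0,0,0,0,0,0,4,0,0,0,4,0,0,0,0,2,0,0,0,0,0,0,0,4,0,0,0,0,0,0,0,0,0,0,0,0,0,0,0,2,0,0,0,0,4,4,0,0,0,0,4,0,0,0,0,0,4,0,0,0,0,1,1,0,0,0,0,1,0,0,0,4,4,0,0,0,3,0,0,0,0,0,0,0,0,0,0,0,0,0,0,0,4,0,0,0,0,0,0,0,3,1],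
  [0,0,0,0,0,0,0,0,0,0,0,0,0,0,0,0,0,0,0,0,0,0,0,0,0,4,0,0,0,3,0,0,0,0,0,0,0,0,0,0,3,0,0,0,0,0,3,0,0,0,0,2,0,0,0,0,4,0,0,0,0,0,0,0,0,0,0,0,0,0,0,0,0,0,0,0,0,0,3,0,0,0,3,0,0,0,2,4,0,0,0,4,3,0,0,0,0,0,0,0,0,0,0,0,4,4,0,0,0,0,0],
  [0,0,0,0,0,0,0,0,0,0,0,0,0,0,3,0,0,4,0,0,0,3,0,0,0,0,2,4,0,0,0,4,0,0,0,2,3,0,0,0,0,1,4,0,0,0,0,1,0,0,0,0,1,0,0,0,0,0,0,0,0,0,0,2,0,0,0,0,0,3,0,0,0,0,3,2,0,0,0,1,0,0,0,1,0,0,0,0,4,1,0,0,0,1,0,0,2,0,0,0,0,0,0,0,0,0,0,0,0,0,0],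
  [0,0,0,0,0,0,0,0,0,0,0,0,0,0,0,0,0,3,0,0,0,1,1,0,0,0,4,3,0,0,0,4,0,0,0,1,2,0,0,0,0,2,2,0,0,0,0,2,0,0,0,0,0,0,0,0,0,0,2,0,0,0,0,3,0,0,0,0,4,0,0,0,0,0,3,0,0,0,0,0,0,0,0,0,1,0,0,0,0,2,0,0,0,3,0,0,1,0,0,0,0,0,0,0,0,0,0,0,0,0,0],
  [0,0,0,0,0,2,2,0,0,0,4,0,2,0,0,1,0,0,1,3,0,0,0,0,3,0,0,0,4,0,0,0,2,0,0,0,0,0,0,0,0,0,0,0,0,0,0,0,0,0,0,0,0,0,3,0,0,0,0,0,0,0,0,0,4,0,0,0,0,0,4,2,0,0,0,0,2,0,0,0,4,3,0,0,0,3,0,0,0,0,0,0,0,0,0,0,0,0,0,0,0,4,0,2,0,0,0,0,0,3,0],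
  [0,0,0,0,0,0,0,0,0,0,0,0,0,0,0,0,0,0,0,0,0,0,0,0,0,2,0,0,0,1,0,0,0,0,4,0,0,0,0,1,2,0,0,0,0,0,2,0,0,0,0,0,0,0,0,0,2,4,0,0,0,0,3,0,0,0,0,0,0,0,0,0,0,4,0,0,0,0,0,0,0,0,3,0,0,0,4,2,0,0,0,1,2,0,0,4,0,0,2,0,4,0,0,0,3,3,0,0,0,0,0],
  [0,0,0,0,0,0,0,0,0,0,0,0,0,0,0,0,0,0,0,0,0,0,0,0,0,4,0,0,0,3,2,0,0,0,3,0,0,0,0,3,0,0,0,0,0,0,4,0,0,0,0,4,0,0,0,0,1,1,0,0,0,0,2,0,0,0,0,0,0,0,0,0,0,1,0,0,0,0,3,0,0,0,2,0,0,0,0,4,0,0,0,3,1,0,0,4,0,0,2,0,4,0,0,0,3,0,0,0,0,0,0],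
  [0,0,0,0,0,0,0,0,0,0,0,0,0,0,0,0,0,4,0,0,0,4,2,0,0,0,3,3,0,0,0,1,0,0,0,1,1,0,0,0,0,2,3,0,0,0,0,4,0,0,0,0,0,0,0,0,0,0,4,0,0,0,0,2,0,0,0,0,0,0,0,0,0,0,3,0,0,0,0,0,0,0,0,0,4,0,0,0,0,0,0,0,0,3,0,0,1,0,0,0,0,0,0,0,0,0,0,0,0,0,0],
  [0,0,0,0,0,3,3,0,0,0,3,0,2,0,0,3,0,0,0,3,0,0,0,3,4,0,0,0,2,0,0,0,4,0,0,0,0,1,0,0,0,0,0,0,0,0,0,0,0,0,0,0,0,0,3,0,0,0,0,0,0,0,0,0,1,0,0,0,0,0,1,3,0,0,0,0,4,0,0,0,2,1,0,0,0,2,0,0,0,0,0,0,0,0,0,0,0,0,0,0,0,4,0,2,0,0,0,0,0,2,0],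
  [0,0,0,0,0,0,0,0,0,0,0,0,0,0,0,0,0,0,0,0,0,0,0,0,0,0,0,0,0,0,0,0,0,1,0,0,0,0,1,0,0,0,0,4,0,0,0,0,0,3,0,0,0,0,0,0,0,0,0,0,0,2,0,0,0,0,0,2,0,0,0,0,3,0,0,0,0,1,0,0,0,0,0,0,0,0,0,0,0,0,3,0,0,0,1,0,0,1,0,4,0,0,3,0,0,0,3,1,0,0,0],
  [0,0,0,0,0,0,0,0,0,0,0,0,0,0,0,0,0,0,0,0,0,0,0,0,0,0,0,0,0,1,0,0,0,0,3,0,0,0,0,0,1,0,0,0,0,3,1,0,0,0,0,3,0,0,0,0,4,1,0,0,0,0,2,0,0,0,0,0,0,0,0,0,0,3,0,0,0,0,1,0,0,0,2,0,0,0,4,3,0,0,0,3,1,0,0,0,0,0,0,0,0,0,0,0,3,0,0,0,0,0,0],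
  [0,0,0,0,0,0,0,0,0,0,0,0,0,0,0,0,0,1,0,0,0,3,1,0,0,0,3,4,0,0,0,2,0,0,0,3,4,0,0,0,0,3,1,0,0,0,0,4,0,0,0,0,0,0,0,0,0,0,2,0,0,0,0,1,0,0,0,0,2,0,0,0,0,0,1,0,0,0,0,0,0,0,0,0,2,0,0,0,0,1,0,0,0,1,0,0,4,0,0,0,0,0,0,0,0,0,0,0,0,0,0],
  [0,0,0,0,0,0,0,0,0,0,0,0,0,0,3,0,0,3,0,0,0,1,3,0,0,0,2,3,0,0,0,2,0,0,0,4,2,0,0,0,0,0,3,0,0,0,0,2,0,0,0,0,4,0,0,0,0,0,4,0,0,0,0,2,0,0,0,0,1,3,0,0,0,0,0,1,0,0,0,2,0,0,0,3,2,0,0,0,1,0,0,0,0,4,0,0,0,0,0,0,0,0,0,0,0,0,0,0,0,0,0],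
  [0,0,0,0,0,1,1,0,0,0,0,0,2,0,0,4,0,0,0,2,0,0,0,0,4,0,0,0,0,0,0,0,1,0,0,0,0,2,0,0,0,0,0,0,0,0,0,0,0,0,0,0,0,0,1,0,0,0,0,0,0,0,0,0,2,0,0,0,0,0,2,1,0,0,0,0,3,0,0,0,2,4,0,0,0,0,0,0,0,0,0,0,0,0,0,0,0,0,0,0,0,3,0,1,0,0,0,0,0,4,0],
  [0,0,0,0,0,0,0,0,0,0,0,0,0,0,0,0,0,0,0,0,0,0,0,0,0,0,0,0,0,0,0,0,0,4,0,0,0,0,2,0,0,0,0,3,1,0,0,0,0,1,1,0,0,0,0,4,0,0,0,0,3,3,0,0,0,0,0,4,0,0,0,0,1,0,0,0,0,2,0,0,0,0,0,0,0,0,0,0,0,0,3,0,0,0,1,0,0,2,0,3,0,0,1,0,0,0,4,4,4,0,0],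
  [0,0,0,0,0,0,0,0,0,0,0,0,0,0,0,0,0,0,0,0,0,0,0,0,0,2,0,0,0,4,3,0,0,0,4,0,0,0,0,4,1,0,0,0,0,1,1,0,0,0,0,2,0,0,0,0,3,1,0,0,0,0,2,0,0,0,0,0,0,0,0,0,0,0,0,0,0,0,0,0,0,0,0,0,0,0,3,0,0,0,0,2,2,0,0,3,0,0,2,0,4,0,0,0,3,0,0,0,0,0,0],
  [0,0,0,0,0,0,0,0,0,0,0,0,0,0,0,0,0,0,0,0,0,0,0,0,0,0,0,0,0,2,2,0,0,0,0,0,0,0,0,0,4,0,0,0,0,0,1,0,0,0,0,2,0,0,0,0,0,0,0,0,0,0,0,0,0,0,0,0,0,0,0,0,0,3,0,0,0,0,1,0,0,0,1,0,0,0,1,0,0,0,0,0,3,0,0,3,0,0,2,0,4,0,0,0,0,2,0,0,0,0,0],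
  [0,0,0,0,0,0,0,0,0,0,0,0,0,0,0,0,0,0,0,0,0,4,1,0,0,0,2,4,0,0,0,2,0,0,0,4,0,0,0,0,0,2,3,0,0,0,0,1,0,0,0,0,0,0,0,0,0,0,2,0,0,0,0,1,0,0,0,0,2,0,0,0,0,0,2,0,0,0,0,0,0,0,0,0,2,0,0,0,0,1,0,0,0,2,0,0,3,0,0,0,0,0,0,0,0,0,0,0,0,0,0],
  [0,0,0,0,0,0,0,0,0,0,0,0,0,0,2,0,0,1,0,0,0,3,4,0,0,0,4,2,0,0,0,4,0,0,0,4,2,0,0,0,0,4,0,0,0,0,0,4,0,0,0,0,3,0,0,0,0,0,2,0,0,0,0,1,0,0,0,0,0,2,0,0,0,0,1,3,0,0,0,0,0,0,0,1,0,0,0,0,2,1,0,0,0,2,0,0,3,0,0,0,0,0,0,0,0,0,0,0,0,0,0],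
  [0,0,0,0,0,0,0,0,0,0,0,0,0,0,0,0,0,0,0,0,0,0,0,0,0,0,0,0,0,0,0,0,0,3,0,0,0,0,4,0,0,0,0,0,2,0,0,0,0,1,1,0,0,0,0,2,0,0,0,0,2,3,0,0,0,0,2,1,0,0,0,0,1,0,0,0,0,2,0,0,0,0,0,0,0,0,0,0,0,0,1,0,0,0,4,0,0,0,0,3,0,0,1,0,0,0,2,1,3,0,0],
  [0,0,0,0,0,0,0,0,0,0,0,0,0,0,0,0,0,0,0,0,0,0,0,0,0,0,0,0,0,0,0,0,0,0,0,0,0,0,1,0,0,0,0,4,1,0,0,0,0,0,1,0,0,0,0,1,0,0,0,0,4,4,0,0,0,0,3,3,0,0,0,0,0,0,0,0,0,0,0,0,0,0,0,0,0,0,0,0,0,0,0,0,0,0,0,0,0,0,0,0,0,0,0,0,0,0,0,0,0,0,0],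
  [0,0,0,0,0,0,0,0,0,0,0,0,0,0,0,0,0,0,0,0,0,0,0,0,0,4,0,0,0,4,0,0,0,0,3,0,0,0,0,2,1,0,0,0,0,1,4,0,0,0,0,1,0,0,0,0,1,2,0,0,0,0,3,0,0,0,0,0,0,0,0,0,0,4,0,0,0,0,3,0,0,0,3,0,0,0,1,1,0,0,0,4,1,0,0,1,0,0,4,0,3,0,0,0,2,1,0,0,0,0,0],
  [0,0,0,0,0,0,0,0,0,0,0,0,0,0,0,0,0,0,0,0,0,0,0,0,0,0,0,0,0,0,0,0,0,0,4,0,0,0,0,0,2,0,0,0,0,0,1,0,0,0,0,0,0,0,0,0,2,1,0,0,0,0,0,0,0,0,0,0,0,0,0,0,0,2,0,0,0,0,4,0,0,0,4,0,0,0,0,4,0,0,0,1,4,0,0,1,0,0,4,0,3,0,0,0,1,0,0,0,0,0,0],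
  [0,0,0,0,0,0,0,0,0,0,0,0,0,0,4,0,0,2,0,0,0,4,0,0,0,0,3,1,0,0,0,1,0,0,0,3,4,0,0,0,0,4,2,0,0,0,0,4,0,0,0,0,3,0,0,0,0,0,0,0,0,0,0,0,0,0,0,0,1,4,0,0,0,0,3,1,0,0,0,3,0,0,0,3,3,0,0,0,2,1,0,0,0,2,0,0,3,0,0,0,0,0,0,0,0,0,0,0,0,0,0],
  [0,0,0,0,0,0,0,0,0,0,0,0,0,0,0,0,0,0,0,0,0,0,0,0,0,0,0,0,0,0,0,0,0,0,0,0,0,0,0,0,0,0,0,0,0,0,0,0,2,0,0,0,0,4,2,0,0,0,0,0,0,0,0,0,0,4,0,0,0,0,0,4,0,0,0,0,1,0,0,0,2,4,0,0,0,0,0,0,0,0,0,0,0,0,0,0,0,0,0,0,0,3,0,1,0,0,0,0,0,0,0],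
  [0,0,0,0,0,0,0,0,0,0,0,0,0,0,0,0,0,0,0,0,0,0,0,0,0,0,0,0,0,0,0,0,0,4,0,0,0,0,2,0,0,0,0,4,0,0,0,0,0,1,1,0,0,0,0,1,0,0,0,0,3,4,0,0,0,0,4,2,0,0,0,0,3,0,0,0,0,3,0,0,0,0,0,0,0,0,0,0,0,0,3,0,0,0,2,0,0,1,0,1,0,0,4,0,0,0,3,2,3,0,0],
  [0,0,0,0,0,0,0,0,0,0,0,0,0,0,0,0,0,0,0,0,0,0,0,0,0,0,0,0,0,0,0,0,0,0,0,0,0,0,3,0,0,0,0,1,3,0,0,0,0,4,4,0,0,0,0,2,0,0,0,0,3,2,0,0,0,0,1,2,0,0,0,0,2,0,0,0,0,0,0,0,0,0,0,0,0,0,0,0,0,0,0,0,0,0,0,0,0,0,0,0,0,0,0,0,0,0,0,0,0,0,0],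
  [0,0,0,0,0,0,0,0,0,0,0,0,0,0,0,0,0,0,0,0,0,0,0,0,0,4,0,0,0,2,4,0,0,0,1,0,0,0,0,1,3,0,0,0,0,0,4,0,0,0,0,2,0,0,0,0,1,2,0,0,0,0,0,0,0,0,0,0,0,0,0,0,0,0,0,0,0,0,0,0,0,0,0,0,0,0,4,2,0,0,0,4,4,0,0,2,0,0,4,0,3,0,0,0,3,3,0,0,0,0,0],
  [0,0,0,0,0,0,0,0,0,0,0,0,0,0,2,0,0,1,0,0,0,2,0,0,0,0,2,0,0,0,0,0,0,0,0,0,2,0,0,0,0,0,1,0,0,0,0,2,0,0,0,0,2,0,0,0,0,0,0,0,0,0,0,0,0,0,0,0,3,2,0,0,0,0,4,3,0,0,0,4,0,0,0,3,0,0,0,0,2,1,0,0,0,2,0,0,0,0,0,0,0,0,0,0,0,0,0,0,0,0,0],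
  [0,0,0,0,0,0,0,0,0,0,0,0,0,0,0,0,0,0,0,0,0,0,0,0,0,0,0,0,0,0,0,0,0,0,0,0,0,0,0,0,0,0,0,0,0,0,0,0,2,0,0,0,0,0,2,0,0,0,0,4,0,0,0,0,0,1,0,0,0,0,0,2,0,0,0,0,1,0,0,0,0,4,0,0,0,2,0,0,0,0,0,0,0,0,0,0,0,0,0,0,0,1,0,0,0,0,0,0,0,1,0],
  [0,0,0,0,0,0,0,0,0,0,0,0,0,0,0,0,0,0,0,0,0,0,0,0,0,0,0,0,0,0,0,0,0,0,0,0,0,0,0,0,0,0,0,0,0,0,0,0,3,0,0,0,0,1,4,0,0,0,0,1,0,0,0,0,1,3,0,0,0,0,0,3,0,0,0,0,3,0,0,0,2,2,0,0,0,4,0,0,0,0,0,0,0,0,0,0,0,0,0,0,0,0,0,3,0,0,0,0,0,4,0],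
  [0,0,0,0,0,0,0,0,0,0,0,0,0,0,0,0,0,0,0,0,0,0,0,0,0,0,0,0,0,0,0,0,0,0,0,0,0,0,4,0,0,0,0,4,1,0,0,0,0,3,4,0,0,0,0,3,0,0,0,0,3,1,0,0,0,0,1,3,0,0,0,0,4,0,0,0,0,0,0,0,0,0,0,0,0,0,0,0,0,0,0,0,0,0,0,0,0,0,0,0,0,0,0,0,0,0,0,0,0,0,0],
  [0,0,0,0,0,0,0,0,0,0,0,0,0,0,0,0,0,0,0,0,0,0,0,0,0,2,0,0,0,0,4,0,0,0,1,0,0,0,0,0,2,0,0,0,0,0,2,0,0,0,0,3,0,0,0,0,0,4,0,0,0,0,4,0,0,0,0,0,0,0,0,0,0,3,0,0,0,0,1,0,0,0,4,0,0,0,2,4,0,0,0,1,1,0,0,2,0,0,3,0,1,0,0,0,1,1,0,0,0,0,0],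
  [0,0,0,0,0,0,0,0,0,0,0,0,0,0,0,0,0,0,0,0,0,0,0,0,0,1,0,0,0,2,3,0,0,0,2,0,0,0,0,0,2,0,0,0,0,3,2,0,0,0,0,3,0,0,0,0,2,2,0,0,0,0,4,0,0,0,0,0,0,0,0,0,0,2,0,0,0,0,4,0,0,0,1,0,0,0,4,4,0,0,0,0,0,0,0,2,0,0,4,0,1,0,0,0,0,3,0,0,0,0,0],
  [0,0,0,0,0,0,0,0,0,0,0,0,0,0,0,0,0,0,0,0,0,0,0,0,0,0,0,0,0,0,0,0,0,0,0,0,0,0,0,0,0,0,0,0,0,0,0,0,0,0,0,0,0,0,0,0,0,0,3,0,0,0,0,3,0,0,0,0,2,0,0,0,0,0,4,0,0,0,0,0,0,0,0,0,1,0,0,0,0,1,0,0,0,4,0,0,3,0,0,0,0,0,0,0,0,0,0,0,0,0,0],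
  [0,0,0,0,0,0,0,0,0,0,0,0,0,0,0,0,0,0,0,0,0,0,0,0,0,0,0,0,0,0,0,0,0,0,0,0,0,0,0,0,0,0,0,0,0,0,0,0,0,0,0,0,0,3,4,0,0,0,0,4,0,0,0,0,0,3,0,0,0,0,4,0,0,0,0,0,4,0,0,0,2,1,0,0,0,1,0,0,0,0,0,0,0,0,0,0,0,0,0,0,0,1,0,2,0,0,0,0,0,0,2],
  [0,0,0,0,0,0,0,0,0,0,0,0,0,0,0,0,0,0,0,0,0,0,0,0,0,0,0,0,0,0,0,0,0,0,0,0,0,0,1,0,0,0,0,3,3,0,0,0,0,3,2,0,0,0,0,1,0,0,0,0,4,4,0,0,0,0,4,1,0,0,0,0,4,0,0,0,0,0,0,0,0,0,0,0,0,0,0,0,0,0,0,0,0,0,0,0,0,0,0,0,0,0,0,0,0,0,0,0,0,0,0],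
  [0,0,0,0,0,0,0,0,0,0,0,0,0,0,0,0,0,0,0,0,0,0,0,0,0,0,0,0,0,0,0,0,0,4,0,0,0,0,4,0,0,0,0,3,2,0,0,0,0,1,2,0,0,0,0,3,0,0,0,0,1,1,0,0,0,0,0,4,0,0,0,0,1,0,0,0,0,2,0,0,0,0,0,0,0,0,0,0,0,0,3,0,0,0,1,0,0,2,0,3,0,0,1,0,0,0,4,4,4,0,0],
  [0,0,0,0,0,0,0,0,0,0,0,0,0,0,0,0,0,0,0,0,0,0,0,0,0,0,0,0,0,2,1,0,0,0,4,0,0,0,0,0,1,0,0,0,0,0,2,0,0,0,0,0,0,0,0,0,3,1,0,0,0,0,1,0,0,0,0,0,0,0,0,0,0,0,0,0,0,0,0,0,0,0,0,0,0,0,2,1,0,0,0,2,2,0,0,3,0,0,2,0,0,0,0,0,2,4,0,0,0,0,0],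
  [0,0,0,0,0,0,0,0,0,0,0,0,0,0,0,0,0,0,0,0,0,0,0,0,0,0,0,0,0,0,0,0,0,0,0,0,0,0,0,0,0,0,0,0,0,0,0,0,0,0,0,0,0,0,0,0,0,0,2,0,0,0,0,1,0,0,0,0,4,4,0,0,0,0,3,4,0,0,0,1,0,0,0,2,4,0,0,0,0,2,0,0,0,3,0,0,1,0,0,0,0,0,0,0,0,0,0,0,0,0,0],
  [0,0,0,0,0,0,0,0,0,0,0,0,0,0,0,0,0,0,0,0,0,0,0,0,0,0,0,0,0,0,0,0,0,0,0,0,0,0,0,0,0,0,0,0,0,0,0,0,1,0,0,0,0,4,1,0,0,0,0,2,0,0,0,0,2,3,0,0,0,0,3,3,0,0,0,0,3,0,0,0,4,0,0,0,0,1,0,0,0,0,0,0,0,0,0,0,0,0,0,0,0,1,0,3,0,0,0,0,0,1,1],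
  [0,0,0,0,0,0,0,0,0,0,0,0,0,0,0,0,0,0,0,0,0,0,0,0,0,0,0,0,0,0,0,0,0,0,0,0,0,0,0,0,0,0,0,0,0,0,0,0,0,0,0,0,0,1,2,0,0,0,0,0,0,0,0,0,0,2,0,0,0,0,0,3,0,0,0,0,1,0,0,0,0,0,0,0,0,0,0,0,0,0,0,0,0,0,0,0,0,0,0,0,0,4,0,0,0,0,0,0,0,0,0],
  [0,0,0,0,0,0,0,0,0,0,0,0,0,0,0,0,0,0,0,0,0,0,0,0,0,0,0,0,0,0,0,0,0,0,0,0,0,0,0,0,0,0,0,4,3,0,0,0,0,2,2,0,0,0,0,1,0,0,0,0,2,0,0,0,0,0,1,3,0,0,0,0,1,0,0,0,0,0,0,0,0,0,0,0,0,0,0,0,0,0,0,0,0,0,0,0,0,0,0,0,0,0,0,0,0,0,0,0,0,0,0],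
  [0,0,0,0,0,0,0,0,0,0,0,0,0,0,0,0,0,0,0,0,0,0,0,0,0,0,0,0,0,0,0,0,0,1,0,0,0,0,3,0,0,0,0,4,1,0,0,0,0,2,3,0,0,0,0,1,0,0,0,0,1,1,0,0,0,0,1,0,0,0,0,0,2,0,0,0,0,4,0,0,0,0,0,0,0,0,0,0,0,0,2,0,0,0,3,0,0,0,0,1,0,0,2,0,0,0,4,2,1,0,0],
  [0,0,0,0,0,0,0,0,0,0,0,0,0,0,0,0,0,0,0,0,0,0,0,0,0,0,0,0,0,0,0,0,0,0,0,0,0,0,0,0,0,0,0,0,0,0,0,0,0,0,0,0,0,0,0,0,0,0,4,0,0,0,0,2,0,0,0,0,0,3,0,0,0,0,3,4,0,0,0,3,0,0,0,3,4,0,0,0,3,3,0,0,0,3,0,0,1,0,0,0,0,0,0,0,0,0,0,0,0,0,0],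
  [0,0,0,0,0,0,0,0,0,0,0,0,0,0,0,0,0,0,0,0,0,0,0,0,0,0,0,0,0,0,0,0,0,0,0,0,0,0,0,0,0,0,0,0,0,0,0,0,0,0,0,0,0,0,0,0,0,0,0,0,0,0,0,1,0,0,0,0,4,3,0,0,0,0,0,3,0,0,0,3,0,0,0,2,4,0,0,0,4,3,0,0,0,0,0,0,0,0,0,0,0,0,0,0,0,0,0,0,0,0,0],
  [0,0,0,0,0,0,0,0,0,0,0,0,0,0,0,0,0,0,0,0,0,0,0,0,0,0,0,0,0,0,0,0,0,0,0,0,0,0,0,0,0,0,0,0,0,0,0,0,2,0,0,0,0,2,1,0,0,0,0,3,0,0,0,0,1,3,0,0,0,0,3,2,0,0,0,0,3,0,0,0,0,3,0,0,0,4,0,0,0,0,0,0,0,0,0,0,0,0,0,0,0,4,0,0,0,0,0,0,0,4,4],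
  [0,0,0,0,0,0,0,0,0,0,0,0,0,0,0,0,0,0,0,0,0,0,0,0,0,0,0,0,0,0,0,0,0,0,0,0,0,0,0,0,0,0,0,0,0,0,0,0,0,0,0,0,0,0,0,0,0,0,0,2,0,0,0,0,0,1,0,0,0,0,0,3,0,0,0,0,0,0,0,0,1,4,0,0,0,0,0,0,0,0,0,0,0,0,0,0,0,0,0,0,0,0,0,4,0,0,0,0,0,0,0],
  [0,0,0,0,0,0,0,0,0,0,0,0,0,0,0,0,0,0,0,0,0,0,0,0,0,0,0,0,0,0,0,0,0,2,0,0,0,0,1,0,0,0,0,2,0,0,0,0,0,4,4,0,0,0,0,4,0,0,0,0,2,2,0,0,0,0,1,1,0,0,0,0,2,0,0,0,0,4,0,0,0,0,0,0,0,0,0,0,0,0,4,0,0,0,1,0,0,3,0,3,0,0,2,0,0,0,4,1,4,0,0],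
  [0,0,0,0,0,0,0,0,0,0,0,0,0,0,0,0,0,0,0,0,0,0,0,0,0,0,0,0,0,0,0,0,0,0,0,0,0,0,0,0,0,0,0,0,0,0,0,0,0,0,0,0,0,0,0,0,0,0,0,0,0,0,0,0,0,0,0,0,0,0,0,0,0,1,0,0,0,0,2,0,0,0,0,0,0,0,0,2,0,0,0,0,2,0,0,3,0,0,1,0,0,0,0,0,1,2,0,0,0,0,0],
  [0,0,0,0,0,0,0,0,0,0,0,0,0,0,0,0,0,0,0,0,0,0,0,0,0,0,0,0,0,0,0,0,0,0,0,0,0,0,0,0,0,0,0,0,0,0,0,0,0,0,0,0,0,0,0,0,0,0,2,0,0,0,0,1,0,0,0,0,2,0,0,0,0,0,3,4,0,0,0,4,0,0,0,2,2,0,0,0,1,1,0,0,0,4,0,0,4,0,0,0,0,0,0,0,0,0,0,0,0,0,0],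
  [0,0,0,0,0,0,0,0,0,0,0,0,0,0,0,0,0,0,0,0,0,0,0,0,0,0,0,0,0,0,0,0,0,0,0,0,0,0,0,0,0,0,0,0,0,0,0,0,0,0,0,0,0,0,0,0,0,0,0,0,0,0,0,3,0,0,0,0,1,4,0,0,0,0,4,2,0,0,0,1,0,0,0,4,2,0,0,0,3,2,0,0,0,2,0,0,0,0,0,0,0,0,0,0,0,0,0,0,0,0,0],
  [0,0,0,0,0,0,0,0,0,0,0,0,0,0,0,0,0,0,0,0,0,0,0,0,0,0,0,0,0,0,0,0,0,0,0,0,0,0,0,0,0,0,0,0,0,0,0,0,2,0,0,0,0,1,1,0,0,0,0,3,0,0,0,0,3,3,0,0,0,0,0,2,0,0,0,0,1,0,0,0,3,0,0,0,0,0,0,0,0,0,0,0,0,0,0,0,0,0,0,0,0,1,0,1,0,0,0,0,0,4,0],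
  [0,0,0,0,0,0,0,0,0,0,0,0,0,0,0,0,0,0,0,0,0,0,0,0,0,0,0,0,0,0,0,0,0,1,0,0,0,0,3,0,0,0,0,1,0,0,0,0,0,1,0,0,0,0,0,0,0,0,0,0,0,1,0,0,0,0,0,3,0,0,0,0,1,0,0,0,0,1,0,0,0,0,0,0,0,0,0,0,0,0,2,0,0,0,3,0,0,4,0,3,0,0,2,0,0,0,0,4,3,0,0],
  [0,0,0,0,0,0,0,0,0,0,0,0,0,0,0,0,0,0,0,0,0,0,0,0,0,0,0,0,0,0,0,0,0,0,0,0,0,0,0,0,0,0,0,0,0,0,0,0,0,0,0,0,0,0,0,0,0,0,0,0,0,0,0,0,0,0,0,0,0,0,0,0,0,2,0,0,0,0,2,0,0,0,4,0,0,0,2,2,0,0,0,0,2,0,0,4,0,0,4,0,4,0,0,0,2,4,0,0,0,0,0],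
  [0,0,0,0,0,0,0,0,0,0,0,0,0,0,0,0,0,0,0,0,0,0,0,0,0,0,0,0,0,0,0,0,0,0,0,0,0,0,0,0,0,0,0,0,0,0,0,0,0,0,0,0,0,0,0,0,0,0,0,0,0,0,0,4,0,0,0,0,4,3,0,0,0,0,3,2,0,0,0,4,0,0,0,4,1,0,0,0,3,3,0,0,0,4,0,0,0,0,0,0,0,0,0,0,0,0,0,0,0,0,0],
  [0,0,0,0,0,0,0,0,0,0,0,0,0,0,0,0,0,0,0,0,0,0,0,0,0,0,0,0,0,0,0,0,0,0,0,0,0,0,0,0,0,0,0,0,0,0,0,0,2,0,0,0,0,2,1,0,0,0,0,0,0,0,0,0,0,3,0,0,0,0,3,2,0,0,0,0,2,0,0,0,2,0,0,0,0,1,0,0,0,0,0,0,0,0,0,0,0,0,0,0,0,0,0,4,0,0,0,0,0,0,3],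
  [0,0,0,0,0,0,0,0,0,0,0,0,0,0,0,0,0,0,0,0,0,0,0,0,0,0,0,0,0,0,0,0,0,0,0,0,0,0,0,0,0,0,0,0,0,0,0,0,2,0,0,0,0,4,1,0,0,0,0,4,0,0,0,0,0,4,0,0,0,0,1,2,0,0,0,0,1,0,0,0,4,4,0,0,0,3,0,0,0,0,0,0,0,0,0,0,0,0,0,0,0,4,0,0,0,0,0,0,0,0,4],
  [0,0,0,0,0,0,0,0,0,0,0,0,0,0,0,0,0,0,0,0,0,0,0,0,0,0,0,0,0,0,0,0,0,0,0,0,0,0,0,0,0,0,0,0,0,0,0,0,0,0,0,0,0,0,0,0,0,0,0,0,0,0,0,0,0,0,0,0,0,0,0,0,0,0,0,0,0,0,4,0,0,0,2,0,0,0,0,4,0,0,0,2,3,0,0,2,0,0,1,0,3,0,0,0,2,4,0,0,0,0,0],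
  [0,0,0,0,0,0,0,0,0,0,0,0,0,0,0,0,0,0,0,0,0,0,0,0,0,0,0,0,0,0,0,0,0,0,0,0,0,0,0,0,0,0,0,0,0,0,0,0,0,0,0,0,0,0,0,0,0,0,0,0,0,0,0,1,0,0,0,0,3,4,0,0,0,0,3,1,0,0,0,3,0,0,0,2,4,0,0,0,2,1,0,0,0,4,0,0,0,0,0,0,0,0,0,0,0,0,0,0,0,0,0],
  [0,0,0,0,0,0,0,0,0,0,0,0,0,0,0,0,0,0,0,0,0,0,0,0,0,0,0,0,0,0,0,0,0,0,0,0,0,0,0,0,0,0,0,0,0,0,0,0,0,0,0,0,0,0,0,0,0,0,2,0,0,0,0,2,0,0,0,0,4,3,0,0,0,0,3,3,0,0,0,2,0,0,0,4,3,0,0,0,0,2,0,0,0,3,0,0,1,0,0,0,0,0,0,0,0,0,0,0,0,0,0],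
  [0,0,0,0,0,0,0,0,0,0,0,0,0,0,0,0,0,0,0,0,0,0,0,0,0,0,0,0,0,0,0,0,0,0,0,0,0,0,0,0,0,0,0,0,0,0,0,0,0,0,0,0,0,1,0,0,0,0,0,2,0,0,0,0,0,3,0,0,0,0,0,1,0,0,0,0,0,0,0,0,4,0,0,0,0,3,0,0,0,0,0,0,0,0,0,0,0,0,0,0,0,3,0,3,0,0,0,0,0,0,0],
  [0,0,0,0,0,0,0,0,0,0,0,0,0,0,0,0,0,0,0,0,0,0,0,0,0,0,0,0,0,0,0,0,0,0,0,0,0,0,0,0,0,0,0,0,0,0,0,0,0,0,0,0,0,0,0,0,0,0,0,0,0,0,0,0,0,0,0,0,0,0,0,0,0,3,0,0,0,0,0,0,0,0,1,0,0,0,1,4,0,0,0,4,4,0,0,2,0,0,2,0,3,0,0,0,3,1,0,0,0,0,0],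
  [0,0,0,0,0,0,0,0,0,0,0,0,0,0,0,0,0,0,0,0,0,0,0,0,0,0,0,0,0,0,0,0,0,0,0,0,0,0,0,0,0,0,0,0,0,0,0,0,0,0,0,0,0,0,0,0,0,0,0,0,0,0,0,0,0,0,0,0,0,0,0,0,0,0,0,0,0,0,3,0,0,0,0,0,0,0,0,1,0,0,0,0,4,0,0,3,0,0,0,0,0,0,0,0,3,0,0,0,0,0,0],
  [0,0,0,0,0,0,0,0,0,0,0,0,0,0,0,0,0,0,0,0,0,0,0,0,0,0,0,0,0,0,0,0,0,0,0,0,0,0,0,0,0,0,0,0,0,0,0,0,0,0,0,0,0,0,0,0,0,0,0,0,0,0,0,0,0,0,0,0,4,4,0,0,0,0,2,1,0,0,0,3,0,0,0,1,0,0,0,0,3,3,0,0,0,1,0,0,0,0,0,0,0,0,0,0,0,0,0,0,0,0,0],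
  [0,0,0,0,0,0,0,0,0,0,0,0,0,0,0,0,0,0,0,0,0,0,0,0,0,0,0,0,0,0,0,0,0,0,0,0,0,0,0,0,0,0,0,0,0,0,0,0,0,0,0,0,0,0,0,0,0,0,3,0,0,0,0,4,0,0,0,0,2,4,0,0,0,0,1,2,0,0,0,4,0,0,0,4,3,0,0,0,4,0,0,0,0,1,0,0,2,0,0,0,0,0,0,0,0,0,0,0,0,0,0],
  [0,0,0,0,0,0,0,0,0,0,0,0,0,0,0,0,0,0,0,0,0,0,0,0,0,0,0,0,0,0,0,0,0,0,0,0,0,0,0,0,0,0,0,0,0,0,0,0,0,0,0,0,0,0,0,0,0,0,0,0,0,0,0,0,0,0,0,0,0,0,0,0,0,0,0,0,0,0,0,0,0,0,0,0,0,0,0,0,0,0,4,0,0,0,4,0,0,4,0,1,0,0,2,0,0,0,3,1,0,0,0],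
  [0,0,0,0,0,0,0,0,0,0,0,0,0,0,0,0,0,0,0,0,0,0,0,0,0,0,0,0,0,0,0,0,0,0,0,0,0,0,0,0,0,0,0,0,0,0,0,0,0,0,0,0,0,0,0,0,0,0,0,0,0,0,0,0,0,0,0,0,0,0,0,0,0,1,0,0,0,0,1,0,0,0,0,0,0,0,3,4,0,0,0,4,1,0,0,4,0,0,3,0,2,0,0,0,3,1,0,0,0,0,0],
  [0,0,0,0,0,0,0,0,0,0,0,0,0,0,0,0,0,0,0,0,0,0,0,0,0,0,0,0,0,0,0,0,0,0,0,0,0,0,0,0,0,0,0,0,0,0,0,0,0,0,0,0,0,0,0,0,0,0,0,0,0,0,0,0,0,0,0,0,0,0,0,0,0,0,0,0,0,0,0,0,0,0,1,0,0,0,0,3,0,0,0,0,4,0,0,0,0,0,3,0,0,0,0,0,0,3,0,0,0,0,0],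
  [0,0,0,0,0,0,0,0,0,0,0,0,0,0,0,0,0,0,0,0,0,0,0,0,0,0,0,0,0,0,0,0,0,0,0,0,0,0,0,0,0,0,0,0,0,0,0,0,0,0,0,0,0,0,0,0,0,0,1,0,0,0,0,3,0,0,0,0,1,0,0,0,0,0,2,1,0,0,0,1,0,0,0,3,1,0,0,0,4,3,0,0,0,1,0,0,2,0,0,0,0,0,0,0,0,0,0,0,0,0,0],
  [0,0,0,0,0,0,0,0,0,0,0,0,0,0,0,0,0,0,0,0,0,0,0,0,0,0,0,0,0,0,0,0,0,0,0,0,0,0,0,0,0,0,0,0,0,0,0,0,0,0,0,0,0,0,0,0,0,0,0,0,0,0,0,0,0,0,0,0,0,0,0,0,0,0,0,0,0,0,0,0,0,0,0,0,0,0,0,0,0,0,2,0,0,0,1,0,0,3,0,2,0,0,4,0,0,0,4,4,4,0,0],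
  [0,0,0,0,0,0,0,0,0,0,0,0,0,0,0,0,0,0,0,0,0,0,0,0,0,0,0,0,0,0,0,0,0,0,0,0,0,0,0,0,0,0,0,0,0,0,0,0,0,0,0,0,0,0,0,0,0,0,0,0,0,0,0,0,0,0,0,0,0,0,0,0,0,1,0,0,0,0,3,0,0,0,4,0,0,0,4,0,0,0,0,0,1,0,0,3,0,0,4,0,0,0,0,0,2,2,0,0,0,0,0],
  [0,0,0,0,0,0,0,0,0,0,0,0,0,0,0,0,0,0,0,0,0,0,0,0,0,0,0,0,0,0,0,0,0,0,0,0,0,0,0,0,0,0,0,0,0,0,0,0,0,0,0,0,0,0,0,0,0,0,3,0,0,0,0,4,0,0,0,0,3,0,0,0,0,0,3,0,0,0,0,0,0,0,0,0,3,0,0,0,0,4,0,0,0,3,0,0,3,0,0,0,0,0,0,0,0,0,0,0,0,0,0],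
  [0,0,0,0,0,0,0,0,0,0,0,0,0,0,0,0,0,0,0,0,0,0,0,0,0,0,0,0,0,0,0,0,0,0,0,0,0,0,0,0,0,0,0,0,0,0,0,0,0,0,0,0,0,0,0,0,0,0,0,0,0,0,0,0,0,0,0,0,0,0,0,0,0,0,0,0,0,0,0,0,0,0,0,0,0,0,0,0,0,0,4,0,0,0,1,0,0,2,0,2,0,0,4,0,0,0,2,1,3,0,0],
  [0,0,0,0,0,0,0,0,0,0,0,0,0,0,0,0,0,0,0,0,0,0,0,0,0,0,0,0,0,0,0,0,0,0,0,0,0,0,0,0,0,0,0,0,0,0,0,0,0,0,0,0,0,0,0,0,0,0,0,0,0,0,0,0,0,0,0,0,0,0,0,0,0,2,0,0,0,0,3,0,0,0,2,0,0,0,0,1,0,0,0,2,0,0,0,4,0,0,3,0,2,0,0,0,3,3,0,0,0,0,0],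
  [0,0,0,0,0,0,0,0,0,0,0,0,0,0,0,0,0,0,0,0,0,0,0,0,0,0,0,0,0,0,0,0,0,0,0,0,0,0,0,0,0,0,0,0,0,0,0,0,0,0,0,0,0,0,0,0,0,0,0,0,0,0,0,0,0,0,0,0,0,0,0,0,0,0,0,0,0,0,0,0,0,0,0,0,0,0,0,0,0,0,2,0,0,0,3,0,0,4,0,1,0,0,1,0,0,0,3,2,3,0,0],
  [0,0,0,0,0,0,0,0,0,0,0,0,0,0,0,0,0,0,0,0,0,0,0,0,0,0,0,0,0,0,0,0,0,0,0,0,0,0,0,0,0,0,0,0,0,0,0,0,0,0,0,0,0,0,0,0,0,0,0,0,0,0,0,0,0,0,0,0,0,0,0,0,0,0,0,0,0,0,3,0,0,0,1,0,0,0,0,4,0,0,0,0,3,0,0,0,0,0,2,0,4,0,0,0,1,1,0,0,0,0,0],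
  [0,0,0,0,0,0,0,0,0,0,0,0,0,0,0,0,0,0,0,0,0,0,0,0,0,0,0,0,0,0,0,0,0,0,0,0,0,0,0,0,0,0,0,0,0,0,0,0,0,0,0,0,0,0,0,0,0,0,0,0,0,0,0,0,0,0,0,0,0,0,0,0,0,0,0,0,0,0,0,0,0,0,0,0,0,0,0,0,0,0,0,0,0,0,0,0,0,0,0,0,0,0,0,4,0,0,0,0,0,3,0],
  [0,0,0,0,0,0,0,0,0,0,0,0,0,0,0,0,0,0,0,0,0,0,0,0,0,0,0,0,0,0,0,0,0,0,0,0,0,0,0,0,0,0,0,0,0,0,0,0,0,0,0,0,0,0,0,0,0,0,0,0,0,0,0,0,0,0,0,0,0,0,0,0,0,0,0,0,0,0,0,0,0,0,0,0,0,0,0,0,0,0,2,0,0,0,3,0,0,4,0,3,0,0,4,0,0,0,0,1,2,0,0],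
  [0,0,0,0,0,0,0,0,0,0,0,0,0,0,0,0,0,0,0,0,0,0,0,0,0,0,0,0,0,0,0,0,0,0,0,0,0,0,0,0,0,0,0,0,0,0,0,0,0,0,0,0,0,0,0,0,0,0,0,0,0,0,0,0,0,0,0,0,0,0,0,0,0,0,0,0,0,0,0,0,0,0,0,0,0,0,0,0,0,0,0,0,0,0,0,0,0,0,0,0,0,2,0,0,0,0,0,0,0,0,3],
  [0,0,0,0,0,0,0,0,0,0,0,0,0,0,0,0,0,0,0,0,0,0,0,0,0,0,0,0,0,0,0,0,0,0,0,0,0,0,0,0,0,0,0,0,0,0,0,0,0,0,0,0,0,0,0,0,0,0,0,0,0,0,0,0,0,0,0,0,0,0,0,0,0,2,0,0,0,0,4,0,0,0,4,0,0,0,4,3,0,0,0,0,2,0,0,2,0,0,3,0,1,0,0,0,0,0,0,0,0,0,0],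
  [0,0,0,0,0,0,0,0,0,0,0,0,0,0,0,0,0,0,0,0,0,0,0,0,0,0,0,0,0,0,0,0,0,0,0,0,0,0,0,0,0,0,0,0,0,0,0,0,0,0,0,0,0,0,0,0,0,0,0,0,0,0,0,0,0,0,0,0,0,0,0,0,0,3,0,0,0,0,1,0,0,0,1,0,0,0,0,1,0,0,0,4,4,0,0,4,0,0,1,0,2,0,0,0,0,0,0,0,0,0,0],
  [0,0,0,0,0,0,0,0,0,0,0,0,0,0,0,0,0,0,0,0,0,0,0,0,0,0,0,0,0,0,0,0,0,0,0,0,0,0,0,0,0,0,0,0,0,0,0,0,0,0,0,0,0,0,0,0,0,0,0,0,0,0,0,0,0,0,0,0,0,0,0,0,0,0,0,0,0,0,0,0,0,0,0,0,0,0,0,0,0,0,3,0,0,0,3,0,0,2,0,4,0,0,0,0,0,0,2,0,0,0,0],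
  [0,0,0,0,0,0,0,0,0,0,0,0,0,0,0,0,0,0,0,0,0,0,0,0,0,0,0,0,0,0,0,0,0,0,0,0,0,0,0,0,0,0,0,0,0,0,0,0,0,0,0,0,0,0,0,0,0,0,0,0,0,0,0,0,0,0,0,0,0,0,0,0,0,0,0,0,0,0,0,0,0,0,0,0,0,0,0,0,0,0,1,0,0,0,3,0,0,1,0,1,0,0,1,0,0,0,0,2,0,0,0],
  [0,0,0,0,0,0,0,0,0,0,0,0,0,0,0,0,0,0,0,0,0,0,0,0,0,0,0,0,0,0,0,0,0,0,0,0,0,0,0,0,0,0,0,0,0,0,0,0,0,0,0,0,0,0,0,0,0,0,0,0,0,0,0,0,0,0,0,0,0,0,0,0,0,0,0,0,0,0,0,0,0,0,0,0,0,0,0,0,0,0,0,0,0,0,3,0,0,3,0,4,0,0,2,0,0,0,0,0,2,0,0],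
  [0,0,0,0,0,0,0,0,0,0,0,0,0,0,0,0,0,0,0,0,0,0,0,0,0,0,0,0,0,0,0,0,0,0,0,0,0,0,0,0,0,0,0,0,0,0,0,0,0,0,0,0,0,0,0,0,0,0,0,0,0,0,0,0,0,0,0,0,0,0,0,0,0,0,0,0,0,0,0,0,0,0,0,0,0,0,0,0,0,0,0,0,0,0,0,0,0,0,0,0,0,3,0,0,0,0,0,0,0,0,1],
  [0,0,0,0,0,0,0,0,0,0,0,0,0,0,0,0,0,0,0,0,0,0,0,0,0,0,0,0,0,0,0,0,0,0,0,0,0,0,0,0,0,0,0,0,0,0,0,0,0,0,0,0,0,0,0,0,0,0,0,0,0,0,0,0,0,0,0,0,0,0,0,0,0,0,0,0,0,0,0,0,0,0,0,0,0,0,0,0,0,0,0,0,0,0,0,0,0,0,0,0,0,0,0,3,0,0,0,0,0,3,0]]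

end CfsgLib.Sporadic.LyRep
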