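import Cfsg.Agent.Lib.Sporadic.LyRep.Packed
import Cfsg.Agent.Lib.Sporadic.LyRep.Data0
import Cfsg.Agent.Lib.Sporadic.LyRep.Data1
import Cfsg.Agent.Lib.Sporadic.LyRep.Data2
import Cfsg.Agent.Lib.Sporadic.LyRep.Data3
import Cfsg.Agent.Lib.Sporadic.LyRep.Data4
import Cfsg.Agent.Lib.Sporadic.LyRep.Data5
import Cfsg.Agent.Lib.Sporadic.LyRep.Data6
import Cfsg.Agent.Lib.Sporadic.LyRep.Data7
import Cfsg.Agent.Lib.Sporadic.LyRep.Data8
import Cfsg.Agent.Lib.Sporadic.LyRep.Data9

/-!
# The letters as matrices (owner: helper25)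
-/

set_option autoImplicit false
set_option maxRecDepth 20000

namespace CfsgLib.Sporadic.LyRep

/-- the rows of a letter -/
def mats (x : ℕ) : List (List ℕ) :=
  ([rows0, rows1, rows2, rows3, rows4, rows5, rows6, rows7, rows8, rows9] : List (List (List ℕ))).getD x []

theorem rows_ok : ((List.range 10).all fun x => rowsOK 111 (mats x)) = true := by decide +kernel

/-- the slot mask -/
noncomputable def mask : ℕ := maskN 111

end CfsgLib.Sporadic.LyRep
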