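import Cfsg.Agent.Lib.Sporadic.LyRep.RedWords

set_option autoImplicit false
set_option maxRecDepth 20000
set_option Elab.async false

/-! Relators that evaluate to the identity, in parts (owner: helper25). -/

namespace CfsgLib.Sporadic.LyRep

theorem red_part0 : redPart 0 9 = true := by decide +kernel

theorem red_part1 : redPart 9 6 = true := by decide +kernel

theorem red_part2 : redPart 15 7 = true := by decide +kernel

theorem red_part3 : redPart 22 3 = true := by decide +kernel

theorem red_part4 : redPart 25 2 = true := by decide +kernel

end CfsgLib.Sporadic.LyRep
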