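import Cfsg.Agent.Lib.Sporadic.LyRep.Packed

/-!
# Sparse rows times a packed matrix held in one number (owner: helper25)
-/

set_option autoImplicit false
set_option maxRecDepth 8000

namespace CfsgLib.Sporadic.LyRep

/-- the bits of a row -/
def rowBits : ℕ := 2664

/-- all rows in one number -/
def packB : List ℕ → ℕ
  | [] => 0
  | r :: R => r + 2 ^ rowBits * packB R

/-- the nonzero entries of a row with the shift of their column -/
def spFrom : ℕ → List ℕ → List (ℕ × ℕ)
  | _, [] => []
  | k, a :: l => cond (Nat.beq a 0) (spFrom (k + 1) l) ((rowBits * k, a) :: spFrom (k + 1) l)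

/-- a sparse row times the rows in one number -/
noncomputable def sdot (rm : ℕ) (p : List (ℕ × ℕ)) (R : ℕ) : ℕ :=
  List.rec (motive := fun _ => ℕ) 0 (fun e _ ih => Nat.add (Nat.mul e.2 (Nat.land (Nat.shiftRight R e.1) rm)) ih) p

/-- sparse rows times the rows in one number -/
noncomputable def smul (rm mask : ℕ) (S : List (List (ℕ × ℕ))) (R : ℕ) : ℕ :=
  List.rec (motive := fun _ => ℕ) 0
    (fun p _ ih => strict (red mask (sdot rm p R)) fun v => Nat.add v (Nat.shiftLeft ih rowBits)) S

/-- the bits of one row -/
noncomputable def rowMask : ℕ := 2 ^ rowBits - 1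

theorem packB_append : ∀ (pre suf : List ℕ), packB (pre ++ suf) = packB pre + 2 ^ (rowBits * pre.length) * packB suf
  | [], suf => by simp [packB]
  | r :: pre, suf => by
    rw [List.cons_append, packB, packB_append pre suf, packB, List.length_cons, Nat.mul_succ, pow_add]
    ring

theorem packB_lt : ∀ {pre : List ℕ}, (∀ r ∈ pre, r < 2 ^ rowBits) → packB pre < 2 ^ (rowBits * pre.length)
  | [], _ => by simp [packB]
  | r :: pre, h => by
    have h1 := packB_lt fun x hx => h x (List.mem_cons_of_mem _ hx)
    have h0 := h r List.mem_cons_self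
    rw [packB, List.length_cons, Nat.mul_succ, pow_add]
    calc r + 2 ^ rowBits * packB pre < 2 ^ rowBits + 2 ^ rowBits * packB pre := by omega
      _ = 2 ^ rowBits * (packB pre + 1) := by ring
      _ ≤ 2 ^ rowBits * 2 ^ (rowBits * pre.length) := Nat.mul_le_mul_left _ h1
      _ = _ := mul_comm _ _

theorem row_at {pre suf : List ℕ} {r : ℕ} (hp : ∀ x ∈ pre, x < 2 ^ rowBits) (hr : r < 2 ^ rowBits) :
    Nat.land (Nat.shiftRight (packB (pre ++ r :: suf)) (rowBits * pre.length)) rowMask = r := by
  show (packB (pre ++ r :: suf) >>> (rowBits * pre.length)) &&& rowMask = r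
  rw [packB_append, Nat.shiftRight_eq_div_pow, Nat.add_mul_div_left _ _ (Nat.two_pow_pos _),
    Nat.div_eq_of_lt (packB_lt hp), zero_add, packB, rowMask, Nat.and_two_pow_sub_one_eq_mod,
    Nat.add_mul_mod_self_left, Nat.mod_eq_of_lt hr]

theorem sdot_spFrom : ∀ (row pre suf : List ℕ), row.length = suf.length → (∀ x ∈ pre ++ suf, x < 2 ^ rowBits) →
    sdot rowMask (spFrom pre.length row) (packB (pre ++ suf)) = dot row suf
  | [], pre, suf, _, _ => rfl
  | a :: row, pre, [], h, _ => by simp at h
  | a :: row, pre, r :: suf, h, hb => by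
    have ih := sdot_spFrom row (pre ++ [r]) suf (by simpa using h) (by simpa using hb)
    rw [List.length_append, List.length_singleton, List.append_assoc, List.singleton_append] at ih
    show sdot rowMask (spFrom pre.length (a :: row)) _ = cond (Nat.beq a 0) (dot row suf) (Nat.add (Nat.mul a r) (dot row suf))
    rw [spFrom]
    cases Nat.beq a 0 with
    | true => exact ih
    | false =>
      show Nat.add (Nat.mul a (Nat.land (Nat.shiftRight (packB (pre ++ r :: suf)) (rowBits * pre.length)) rowMask))
        (sdot rowMask (spFrom (pre.length + 1) row) (packB (pre ++ r :: suf))) = _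
      rw [row_at (fun x hx => hb x (List.mem_append_left _ hx)) (hb r (List.mem_append_right _ List.mem_cons_self)), ih]
      rfl

theorem smul_spFrom {R : List ℕ} {mask : ℕ} (hb : ∀ x ∈ R, x < 2 ^ rowBits) :
    ∀ {S : List (List ℕ)}, (∀ row ∈ S, row.length = R.length) →
      smul rowMask mask (S.map (spFrom 0)) (packB R) = packB (dmul mask S R)
  | [], _ => rfl
  | row :: S, h => by
    have hd := sdot_spFrom row [] R (h row List.mem_cons_self) (by simpa using hb)
    rw [List.length_nil, List.nil_append] at hd
    show strict (red mask (sdot rowMask (spFrom 0 row) (packB R)))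
      (fun v => Nat.add v (Nat.shiftLeft (smul rowMask mask (S.map (spFrom 0)) (packB R)) rowBits)) = _
    rw [strict_eq, hd, smul_spFrom hb fun r hr => h r (List.mem_cons_of_mem _ hr), dmul_eq_map, dmul_eq_map,
      List.map_cons, packB]
    show _ + (_ <<< rowBits) = _
    rw [Nat.shiftLeft_eq, mul_comm (2 ^ rowBits)]

theorem packF_lt : ∀ (n : ℕ) (f : Fin n → ℕ), (∀ i, f i < 2 ^ 24) → packF n f < 2 ^ (24 * n)
  | 0, _, _ => by simp [packF]
  | n + 1, f, h => by
    have h1 := packF_lt n (fun i => f i.succ) fun i => h i.succ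
    have h0 := h 0
    rw [packF, Nat.mul_succ, pow_add]
    generalize 2 ^ (24 * n) = B at h1 ⊢
    nlinarith

theorem enc_bound (A : Mat 111) : ∀ x ∈ enc A, x < 2 ^ rowBits := by
  intro x hx
  rw [enc, List.mem_ofFn] at hx
  obtain ⟨i, rfl⟩ := hx
  exact packF_lt 111 _ fun j => (ZMod.val_lt (A i j)).trans_le (by norm_num)

/-- the packed value of a word in sparse letters -/
noncomputable def evalSp (rm mask one : ℕ) (M : ℕ → List (List (ℕ × ℕ))) (w : List ℕ) : ℕ :=
  List.rec (motive := fun _ => ℕ) one (fun x _ ih => smul rm mask (M x) ih) w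

theorem packB_inj {A B : List ℕ} (hA : ∀ x ∈ A, x < 2 ^ rowBits) (hB : ∀ x ∈ B, x < 2 ^ rowBits)
    (hl : A.length = B.length) (h : packB A = packB B) : A = B := by
  induction A generalizing B with
  | nil => cases B with | nil => rfl | cons _ _ => simp at hl
  | cons a A ih =>
    cases B with
    | nil => simp at hl
    | cons b B =>
      simp only [packB] at h
      have ha := hA a List.mem_cons_self
      have hb := hB b List.mem_cons_self
      have h0 : a = b := by
        have := congrArg (· % 2 ^ rowBits) h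
        rwa [Nat.add_mul_mod_self_left, Nat.add_mul_mod_self_left, Nat.mod_eq_of_lt ha, Nat.mod_eq_of_lt hb] at this
      subst h0
      rw [ih (fun x hx => hA x (List.mem_cons_of_mem _ hx)) (fun x hx => hB x (List.mem_cons_of_mem _ hx))
        (by simpa using hl) (Nat.eq_of_mul_eq_mul_left (Nat.two_pow_pos _) (Nat.add_left_cancel h))]

theorem evalSp_eq {M : ℕ → List (List ℕ)} {M' : ℕ → List (List (ℕ × ℕ))} {one : ℕ}
    (h1 : one = packB (enc (1 : Mat 111))) :
    ∀ {w : List ℕ}, (∀ x ∈ w, rowsOK 111 (M x) = true ∧ M' x = (M x).map (spFrom 0)) →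
      evalSp rowMask (maskN 111) one M' w = packB (enc (w.map fun x => toMat 111 (M x)).prod)
  | [], _ => h1
  | x :: w, h => by
    obtain ⟨hok, hM⟩ := h x List.mem_cons_self
    show smul rowMask (maskN 111) (M' x) (evalSp rowMask (maskN 111) one M' w) = _
    rw [evalSp_eq h1 fun y hy => h y (List.mem_cons_of_mem _ hy), hM, smul_spFrom (enc_bound _) ?_,
      dmul_enc le_rfl hok, List.map_cons, List.prod_cons]
    intro row hrow
    simp only [rowsOK, Bool.and_eq_true, beq_iff_eq, List.all_eq_true] at hok
    rw [(hok.2 row hrow).1]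
    simp [enc]

end CfsgLib.Sporadic.LyRep
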